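import Groth.Agent.EtInvariance.SchemePushOpen
import Groth.Agent.S3896
import Mathlib

/-!
Sheaves over the subterminal sheaf of an open are sheaves on the open.
-/

set_option autoImplicit false
set_option backward.isDefEq.respectTransparency false
set_option backward.isDefEq.respectTransparency.types false
set_option maxHeartbeats 1000000
set_option linter.style.haveILetI false

universe u

open CategoryTheory CategoryTheory.Limits AlgebraicGeometry Opposite

noncomputable section

namespace Groth.Agent.EtOpenEquiv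

open Groth.Agent.EtInvariance.SchemePush

variable {X : Scheme.{u}} (U : X.Opens)

/-- the subterminal sheaf of the open -/
abbrev rep : EtDesc.Sh X := EtDesc.repSh (EtDesc.ofOpen U)

/-- evaluation of sheaves -/
abbrev ev (V : X.Etale) : EtDesc.Sh X ⥤ Type (u + 1) := sheafToPresheaf _ _ ⋙ (evaluation _ _).obj (op V)

theorem nonempty_rep_iff (V : X.Etale) : Nonempty ((rep U).obj.obj (op V)) ↔ Set.range V.hom ⊆ (U : Set X) := by
  rw [← S3896.nonempty_hom_iff U V]
  refine ((((sheafToPresheaf _ _).mapIso (S3896.repIso U)).app (op V)).toEquiv).nonempty_congr.trans ?_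
  exact ⟨fun ⟨x⟩ => ⟨x.down⟩, fun ⟨x⟩ => ⟨⟨x⟩⟩⟩

theorem range_comp_subset (V : (U : Scheme.{u}).Etale) :
    Set.range ((EtShriek.compEtale U.ι).obj V).hom ⊆ (U : Set X) := by
  rintro _ ⟨z, rfl⟩
  show (V.hom ≫ U.ι) z ∈ U
  rw [Scheme.Hom.comp_apply]
  exact (Scheme.Opens.range_ι U).le ⟨_, rfl⟩

theorem exists_comp_iso (V : X.Etale) (hV : Set.range V.hom ⊆ (U : Set X)) :
    ∃ V' : (U : Scheme.{u}).Etale, Nonempty ((EtShriek.compEtale U.ι).obj V' ≅ V) := by
  have hr : Set.range V.hom ⊆ Set.range U.ι := by rw [Scheme.Opens.range_ι]; exact hV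
  let g : V.left ⟶ (U : Scheme.{u}) := IsOpenImmersion.lift U.ι V.hom hr
  have hg : g ≫ U.ι = V.hom := IsOpenImmersion.lift_fac _ _ _
  haveI := V.prop
  haveI : Etale g := by
    haveI : Etale (g ≫ U.ι) := by rw [hg]; infer_instance
    exact Etale.of_comp g U.ι
  refine ⟨Scheme.Etale.mk g, ⟨?_⟩⟩
  exact MorphismProperty.Over.isoMk (Iso.refl _) ((Category.id_comp _).trans hg.symm)

/-- restriction to the open from sheaves over its subterminal sheaf -/
abbrev toOpen : Over (rep U) ⥤ EtDesc.Sh (U : Scheme.{u}) := Over.forget (rep U) ⋙ restrSh U.ι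

theorem isIso_restr_snd (H : EtDesc.Sh X) : IsIso ((restrSh U.ι).map (prod.snd : rep U ⨯ H ⟶ H)) := by
  rw [← isIso_iff_of_reflects_iso _ (sheafToPresheaf _ _), NatTrans.isIso_iff_isIso_app]
  intro V'
  let V := (EtShriek.compEtale U.ι).obj V'.unop
  show IsIso ((ev V).map (prod.snd : rep U ⨯ H ⟶ H))
  have hP : IsPullback (prod.fst : rep U ⨯ H ⟶ rep U) prod.snd (terminal.from (rep U)) (terminal.from H) :=
    IsPullback.of_hasBinaryProduct' _ _
  haveI : PreservesFiniteLimits (ev V) := inferInstance
  haveI : IsIso ((ev V).map (terminal.from (rep U))) := by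
    haveI : Subsingleton ((ev V).obj (rep U)) := S3896.subsingleton_rep U V
    haveI : Nonempty ((ev V).obj (rep U)) := (nonempty_rep_iff U V).mpr (range_comp_subset U V'.unop)
    haveI : PreservesLimit (Functor.empty.{0} (EtDesc.Sh X)) (ev V) := inferInstance
    haveI : Subsingleton ((ev V).obj (⊤_ (EtDesc.Sh X))) :=
      ((Types.isTerminalEquivUnique _) (IsTerminal.isTerminalObj (ev V) _ terminalIsTerminal)).instSubsingleton
    rw [isIso_iff_bijective]
    exact ⟨fun a b _ => Subsingleton.elim a b, fun y => ⟨Classical.arbitrary _, Subsingleton.elim _ _⟩⟩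
  exact (hP.map (ev V)).isIso_snd_of_isIso

theorem reflectsIsomorphisms_toOpen : (toOpen U).ReflectsIsomorphisms := by
  refine ⟨fun {A B} a ha => ?_⟩
  suffices IsIso a.left from (isIso_iff_of_reflects_iso a (Over.forget (rep U))).mp this
  rw [← isIso_iff_of_reflects_iso _ (sheafToPresheaf _ _), NatTrans.isIso_iff_isIso_app]
  rintro ⟨V⟩
  by_cases hV : Set.range V.hom ⊆ (U : Set X)
  · obtain ⟨V', ⟨i⟩⟩ := exists_comp_iso U V hV
    haveI : IsIso ((toOpen U).map a).hom := inferInstanceAs (IsIso ((sheafToPresheaf _ _).map ((toOpen U).map a)))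
    haveI : IsIso (a.left.hom.app (op ((EtShriek.compEtale U.ι).obj V'))) :=
      inferInstanceAs (IsIso (((toOpen U).map a).hom.app (op V')))
    show IsIso (a.left.hom.app (op V))
    rw [show a.left.hom.app (op V) = A.left.obj.map i.hom.op ≫ a.left.hom.app (op ((EtShriek.compEtale U.ι).obj V')) ≫
      B.left.obj.map i.inv.op by
        rw [← a.left.hom.naturality, ← Category.assoc, ← Functor.map_comp, ← op_comp, i.inv_hom_id, op_id,
          CategoryTheory.Functor.map_id, Category.id_comp]]
    infer_instance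
  · have hA : IsEmpty (A.left.obj.obj (op V)) :=
      ⟨fun x => hV ((nonempty_rep_iff U V).mp ⟨A.hom.hom.app (op V) x⟩)⟩
    have hB : IsEmpty (B.left.obj.obj (op V)) :=
      ⟨fun x => hV ((nonempty_rep_iff U V).mp ⟨B.hom.hom.app (op V) x⟩)⟩
    show IsIso (a.left.hom.app (op V))
    rw [isIso_iff_bijective]
    exact ⟨fun x => hA.elim x, fun x => hB.elim x⟩

/-- the adjunction -/
def openAdj : toOpen U ⊣ EtDesc.pushSh U.ι ⋙ Over.star (rep U) :=
  (Over.forgetAdjStar (rep U)).comp (restrPushShAdj U.ι)

theorem isEquivalence_toOpen : (toOpen U).IsEquivalence := by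
  haveI := reflectsIsomorphisms_toOpen U
  haveI hε : ∀ G, IsIso ((openAdj U).counit.app G) := fun G => by
    haveI := isIso_restr_snd U ((EtDesc.pushSh U.ι).obj G)
    haveI := isIso_counit_restrPush U.ι
    rw [openAdj, Adjunction.comp_counit_app, Over.forgetAdjStar_counit_app]
    infer_instance
  haveI : IsIso (openAdj U).counit := NatIso.isIso_of_isIso_app _
  haveI : ∀ A, IsIso ((openAdj U).unit.app A) := fun A => by
    haveI := hε ((toOpen U).obj A)
    haveI : IsIso ((toOpen U).map ((openAdj U).unit.app A)) := by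
      have h := (openAdj U).left_triangle_components A
      refine ⟨⟨_, h, ?_⟩⟩
      rw [← cancel_mono ((openAdj U).counit.app ((toOpen U).obj A)), Category.assoc, h]
      exact (Category.comp_id _).trans (Category.id_comp _).symm
    exact isIso_of_reflects_iso _ (toOpen U)
  haveI : IsIso (openAdj U).unit := NatIso.isIso_of_isIso_app _
  exact (openAdj U).toEquivalence.isEquivalence_functor

theorem isEquivalence_pull : (Over.forget (rep U) ⋙ EtDesc.pullSh U.ι).IsEquivalence :=
  haveI := isEquivalence_toOpen U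
  Functor.isEquivalence_of_iso (Functor.isoWhiskerLeft (Over.forget (rep U))
    ((restrPushShAdj U.ι).leftAdjointUniq (EtDesc.adjSh U.ι)))

end Groth.Agent.EtOpenEquiv
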